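import Groth.Agent.AbExt.Prelim
import Groth.Agent.Proj16.DVRCrit
import Groth.Agent.FppfPic.ExtendRegular

/-!
Valuative existence for the relative Picard scheme of a proper smooth morphism.
-/

noncomputable section

set_option autoImplicit false
set_option linter.style.haveILetI false
set_option linter.unusedSectionVars false
set_option backward.isDefEq.respectTransparency false
set_option backward.isDefEq.respectTransparency.types false
set_option maxHeartbeats 1000000
set_option synthInstance.maxHeartbeats 400000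

universe u

open CategoryTheory CategoryTheory.Limits AlgebraicGeometry TopologicalSpace

attribute [-instance] CategoryTheory.catToReflQuiver

namespace Groth.Agent.PicSep

open Groth.Agent

/-- every point of the spectrum of a local ring lands in an open containing the image of the closed point -/
theorem range_subset_of_closedPoint {R : Type u} [CommRing R] [IsLocalRing R] {Y : Scheme.{u}}
    (f : Spec (CommRingCat.of R) ⟶ Y) (U : Y.Opens) (h : f (IsLocalRing.closedPoint R) ∈ U) :
    Set.range f ⊆ Set.range U.ι := by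
  rw [Scheme.Opens.range_ι]
  rintro _ ⟨z, rfl⟩
  exact ((IsLocalRing.specializes_closedPoint z).map f.continuous).mem_open U.isOpen h

/-- lifts over a dominating discrete valuation ring descend -/
theorem exists_lift_of_dominating {P S : Scheme.{u}} (p : P ⟶ S) {A : Type u} [CommRing A] [IsDomain A] [IsDiscreteValuationRing A]
    (b : Spec (CommRingCat.of A) ⟶ S) (x : Spec (CommRingCat.of (FractionRing A)) ⟶ P)
    (hx : x ≫ p = Spec.map (CommRingCat.ofHom (algebraMap A (FractionRing A))) ≫ b)
    {L : Type u} [Field L] [Algebra A L] [Algebra (FractionRing A) L] [IsScalarTower A (FractionRing A) L]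
    (V : ValuationSubring L) (hV : ∀ a : A, algebraMap A L a ∈ V)
    (hloc : IsLocalHom ((algebraMap A L).codRestrict V.toSubring hV))
    (l : Spec (CommRingCat.of V) ⟶ P)
    (hl : Spec.map (CommRingCat.ofHom V.subtype) ≫ l =
      Spec.map (CommRingCat.ofHom (algebraMap (FractionRing A) L)) ≫ x)
    (hlp : l ≫ p = Spec.map (CommRingCat.ofHom ((algebraMap A L).codRestrict V.toSubring hV)) ≫ b) :
    ∃ g : Spec (CommRingCat.of A) ⟶ P, g ≫ p = b ∧
      Spec.map (CommRingCat.ofHom (algebraMap A (FractionRing A))) ≫ g = x := by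
  let ιA : A →+* V := (algebraMap A L).codRestrict V.toSubring hV
  let ja := Spec.map (CommRingCat.ofHom (algebraMap A (FractionRing A)))
  obtain ⟨Sa, hSa, hyS, -⟩ := exists_isAffineOpen_mem_and_subset (x := b (IsLocalRing.closedPoint A)) (U := ⊤) trivial
  let z := l (IsLocalRing.closedPoint V)
  have hz : p z ∈ Sa := by
    have hc : Spec.map (CommRingCat.ofHom ιA) (IsLocalRing.closedPoint V) = IsLocalRing.closedPoint A :=
      haveI : IsLocalHom ιA := hloc
      IsLocalRing.comap_closedPoint ιA
    show p (l _) ∈ Sa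
    rw [← Scheme.Hom.comp_apply, hlp, Scheme.Hom.comp_apply]
    exact hc.symm ▸ hyS
  obtain ⟨W, hW, hzW, hWS⟩ := exists_isAffineOpen_mem_and_subset (x := z) (U := p ⁻¹ᵁ Sa) hz
  have hlr := range_subset_of_closedPoint l W hzW
  let lV := IsOpenImmersion.lift W.ι l hlr
  have hxr : Set.range x ⊆ Set.range W.ι := by
    rintro _ ⟨o, rfl⟩
    obtain rfl : o = Spec.map (CommRingCat.ofHom (algebraMap (FractionRing A) L)) (IsLocalRing.closedPoint L) :=
      Subsingleton.elim (α := PrimeSpectrum (FractionRing A)) _ _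
    rw [← Scheme.Hom.comp_apply, ← hl, Scheme.Hom.comp_apply]
    exact hlr ⟨_, rfl⟩
  let lK := IsOpenImmersion.lift W.ι x hxr
  haveI : IsAffine W.toScheme := hW
  let e := W.toScheme.isoSpec
  obtain ⟨βV, hβV⟩ := Spec.map_surjective (lV ≫ e.hom)
  obtain ⟨βK, hβK⟩ := Spec.map_surjective (lK ≫ e.hom)
  have hcomm : βV ≫ CommRingCat.ofHom V.subtype = βK ≫ CommRingCat.ofHom (algebraMap (FractionRing A) L) := by
    refine Spec.map_injective ?_
    rw [Spec.map_comp, Spec.map_comp, hβV, hβK, ← Category.assoc, ← Category.assoc]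
    congr 1
    rw [← cancel_mono W.ι, Category.assoc, Category.assoc, IsOpenImmersion.lift_fac, IsOpenImmersion.lift_fac, hl]
  have hmem : ∀ s, βK.hom s ∈ (algebraMap A (FractionRing A)).range := by
    intro s
    rcases ValuationRing.isInteger_or_isInteger A (K := FractionRing A) (βK.hom s) with h | h
    · exact h
    by_cases h0 : βK.hom s = 0
    · exact ⟨0, by rw [map_zero, h0]⟩
    obtain ⟨c, hc⟩ := h
    have hs : algebraMap (FractionRing A) L (βK.hom s) ∈ V := by
      have h1 := congr($hcomm s)
      simp only [CommRingCat.hom_comp, CommRingCat.hom_ofHom, RingHom.coe_comp, Function.comp_apply] at h1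
      rw [show algebraMap (FractionRing A) L (βK.hom s) = V.subtype (βV.hom s) from h1.symm]
      exact (βV.hom s).2
    have hu : IsUnit (ιA c) := by
      refine IsUnit.of_mul_eq_one ⟨_, hs⟩ (Subtype.ext ?_)
      show algebraMap A L c * algebraMap (FractionRing A) L (βK.hom s) = 1
      rw [IsScalarTower.algebraMap_apply A (FractionRing A) L, ← map_mul, hc, inv_mul_cancel₀ h0, map_one]
    obtain ⟨d, hd⟩ := (hloc.map_nonunit c hu).exists_right_inv
    refine ⟨d, ?_⟩
    have h2 := congrArg (algebraMap A (FractionRing A)) hd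
    rw [map_mul, hc, map_one] at h2
    exact ((inv_mul_eq_one₀ h0).1 h2).symm
  choose β₀ hβ₀ using hmem
  have hinj := IsFractionRing.injective A (FractionRing A)
  let β : Γ(W.toScheme, ⊤) →+* A :=
    { toFun := β₀
      map_one' := hinj (by rw [hβ₀, map_one, map_one])
      map_zero' := hinj (by rw [hβ₀, map_zero, map_zero])
      map_add' := fun a c => hinj (by rw [hβ₀, map_add, map_add, hβ₀, hβ₀])
      map_mul' := fun a c => hinj (by rw [hβ₀, map_mul, map_mul, hβ₀, hβ₀]) }
  let g := Spec.map (CommRingCat.ofHom β) ≫ e.inv ≫ W.ι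
  have hg : ja ≫ g = x := by
    have h1 : CommRingCat.ofHom β ≫ CommRingCat.ofHom (algebraMap A (FractionRing A)) = βK :=
      CommRingCat.hom_ext (RingHom.ext fun s => hβ₀ s)
    show ja ≫ Spec.map _ ≫ _ = x
    rw [← Category.assoc, ← Spec.map_comp, h1, hβK, Category.assoc, e.hom_inv_id_assoc, IsOpenImmersion.lift_fac]
  refine ⟨g, ?_, hg⟩
  haveI : IsAffine Sa.toScheme := hSa
  haveI : IsDominant ja := by
    refine ⟨dense_iff_closure_eq.2 ?_⟩
    exact DenseRange.closure_range (PrimeSpectrum.denseRange_comap_iff_ker_le_nilRadical _ |>.2 (by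
      rw [CommRingCat.hom_ofHom, (RingHom.injective_iff_ker_eq_bot _).1 hinj]
      exact bot_le))
  have hr1 : Set.range (g ≫ p) ⊆ Set.range Sa.ι := by
    rw [Scheme.Opens.range_ι]
    rintro _ ⟨o, rfl⟩
    have hgW : g o ∈ W := by
      show W.ι (e.inv (Spec.map (CommRingCat.ofHom β) o)) ∈ W
      exact (e.inv (Spec.map (CommRingCat.ofHom β) o)).2
    exact hWS hgW
  have hr2 := range_subset_of_closedPoint b Sa hyS
  rw [← IsOpenImmersion.lift_fac Sa.ι (g ≫ p) hr1, ← IsOpenImmersion.lift_fac Sa.ι b hr2]
  congr 1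
  refine ext_of_isDominant ja ?_
  rw [← cancel_mono Sa.ι]
  simp only [Category.assoc, IsOpenImmersion.lift_fac]
  rw [← Category.assoc, hg, hx]

variable {X S : Scheme.{u}} (f : X ⟶ S) [IsProper f] [Smooth f] {P : Over S}
  {φ : ∀ T : Over S, PicF.Cl (PicF.XT f T) → (T ⟶ P)} (hP : PicRel.IsRelPic f P φ)

include hP in
/-- valuative existence for the relative Picard scheme -/
theorem dvrExistence : Proj16.DVRExistence P.hom := by
  intro A _ _ _ x b w
  let ja := Spec.map (CommRingCat.ofHom (algebraMap A (FractionRing A)))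
  let TK : Over S := Over.mk (ja ≫ b)
  obtain ⟨I, U, hU, hc⟩ := hP.locallySurjective TK (Over.homMk x w)
  obtain ⟨i, u, -⟩ := hU (IsLocalRing.closedPoint (FractionRing A))
  obtain ⟨c, hcI, hcx⟩ := hc i
  let h : (U i).left ⟶ Spec (CommRingCat.of (FractionRing A)) := (U i).hom
  haveI : Etale h := (U i).prop
  haveI : JacobsonSpace (U i).left := LocallyOfFiniteType.jacobsonSpace h
  obtain ⟨v, -, hv⟩ := nonempty_inter_closedPoints (Z := (Set.univ : Set (U i).left)) ⟨u, trivial⟩ isClosed_univ.isLocallyClosed
  haveI : IsClosedImmersion ((U i).left.fromSpecResidueField v) :=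
    IsClosedImmersion.of_isPreimmersion _ (by rw [Scheme.range_fromSpecResidueField]; exact hv)
  let L := (U i).left.residueField v
  obtain ⟨α, hα⟩ := Spec.map_surjective ((U i).left.fromSpecResidueField v ≫ h)
  have hft : α.hom.FiniteType :=
    (HasRingHomProperty.Spec_iff (P := @LocallyOfFiniteType)).1 (hα ▸ inferInstance)
  letI : Algebra (FractionRing A) L := α.hom.toAlgebra
  letI : Algebra A L := (α.hom.comp (algebraMap A (FractionRing A))).toAlgebra
  haveI : IsScalarTower A (FractionRing A) L := IsScalarTower.of_algebraMap_eq fun _ => rfl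
  haveI : Algebra.FiniteType (FractionRing A) L := hft
  haveI : Algebra.EssFiniteType A (FractionRing A) := Algebra.EssFiniteType.of_isLocalization _ (nonZeroDivisors A)
  haveI : Algebra.EssFiniteType A L := Algebra.EssFiniteType.comp A (FractionRing A) L
  obtain ⟨ϖ, hϖ⟩ := IsDiscreteValuationRing.exists_irreducible A
  obtain ⟨V, hVd, hV, hloc⟩ := Proj16.exists_dvr_dominating A L ⟨ϖ,
    (IsLocalRing.mem_maximalIdeal _).2 hϖ.not_isUnit, fun h0 => hϖ.ne_zero (IsFractionRing.injective A (FractionRing A)
      (by rw [map_zero]; exact α.hom.injective (h0.trans (map_zero _).symm)))⟩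
  haveI := hVd
  let jV := Spec.map (CommRingCat.ofHom V.subtype)
  obtain ⟨e, he, hee⟩ := Proj16.exists_fractionRing_spec V
  haveI := he
  haveI : IsOpenImmersion jV := by
    haveI : IsOpenImmersion (e ≫ jV) := by rw [hee]; exact H9FlatCl.isOpenImmersion_generic V
    have : jV = inv e ≫ (e ≫ jV) := by simp
    rw [this]
    infer_instance
  let TV : Over S := Over.mk (Spec.map (CommRingCat.ofHom ((algebraMap A L).codRestrict V.toSubring hV)) ≫ b)
  let TL : Over S := Over.mk (jV ≫ TV.hom)
  let m : TL ⟶ TV := Over.homMk jV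
  have hsq : jV ≫ Spec.map (CommRingCat.ofHom ((algebraMap A L).codRestrict V.toSubring hV)) =
      ((U i).left.fromSpecResidueField v ≫ h) ≫ ja := by
    rw [← hα, ← Spec.map_comp, ← Spec.map_comp]
    rfl
  let q : TL ⟶ PicRel.ovr TK (U i) := Over.homMk ((U i).left.fromSpecResidueField v) (by
    show (U i).left.fromSpecResidueField v ≫ h ≫ ja ≫ b = jV ≫ _ ≫ b
    rw [reassoc_of% hsq])
  haveI : IsOpenImmersion m.left := ‹IsOpenImmersion jV›
  haveI : IsOpenImmersion (PicF.XTmap f m) :=
    MorphismProperty.of_isPullback (P := @IsOpenImmersion) (RelPicGrp.isPullback_XTmap (f := f) m).flip ‹_›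
  let pr : PicF.XT f TV ⟶ Spec (CommRingCat.of V) := PicF.XTproj f TV
  haveI : Smooth pr := MorphismProperty.pullback_snd _ _ inferInstance
  haveI : IsLocallyNoetherian (PicF.XT f TV) := LocallyOfFiniteType.isLocallyNoetherian pr
  obtain ⟨d, hd, hdc⟩ := AbExt.exists_extend_cl (PicF.XTmap f m)
    (fun y => (AbExt.ufd_stalk (FppfPic.regular_spec (R := V)) pr y).2) (RelPicGrp.isInvertibleCl_pull (PicF.XTmap f q) hcI)
  have hgen : m ≫ φ TV d = q ≫ PicRel.ovrHom TK (U i) ≫ Over.homMk x w := by
    rw [← hP.natural _ _ m d hd, hdc, hP.natural _ _ q c hcI, hcx]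
  obtain ⟨g, hg1, hg2⟩ := exists_lift_of_dominating P.hom b x w V hV hloc (φ TV d).left (by
    have := congrArg (fun r => r.left) hgen
    rw [show Spec.map (CommRingCat.ofHom (algebraMap (FractionRing A) L)) =
      (U i).left.fromSpecResidueField v ≫ h from hα]
    exact this.trans (Category.assoc _ _ _).symm) (Over.w _)
  exact ⟨g, hg1, hg2⟩

end Groth.Agent.PicSep

end
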