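import Groth.Agent.PicSep.Stein
import Groth.Agent.PicSep.Valuative
import Groth.Agent.RelPicGrp.Lift
import Groth.Agent.PicCurve.Rigify

/-!
Separatedness and properness properties of the relative Picard scheme of a proper smooth morphism.
-/

noncomputable section

set_option autoImplicit false
set_option linter.style.haveILetI false
set_option linter.unusedSectionVars false
set_option backward.isDefEq.respectTransparency false
set_option backward.isDefEq.respectTransparency.types false
set_option maxHeartbeats 1000000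
set_option synthInstance.maxHeartbeats 400000

universe u

open CategoryTheory CategoryTheory.Limits AlgebraicGeometry TopologicalSpace

attribute [-instance] CategoryTheory.catToReflQuiver

namespace Groth.Agent.PicSep

open Groth.Agent Groth.Agent.H23 Groth.Agent.H23.TrivBasic
open scoped Groth.Agent.H23.PicMul

variable {X S : Scheme.{u}} (f : X ⟶ S) [IsProper f] [Smooth f] {P : Over S}
  {φ : ∀ T : Over S, PicF.Cl (PicF.XT f T) → (T ⟶ P)} (hP : PicRel.IsRelPic f P φ)

include hP in
/-- two points of the Picard scheme agree on a closed subset of the parameter scheme -/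
theorem exists_closed_eq {T : Over S} {c d : PicF.Cl (PicF.XT f T)} (hc : PicF.IsInvertibleCl c) (hd : PicF.IsInvertibleCl d) :
    ∃ Z : Set T.left, IsClosed Z ∧ ∀ (Ω : Type u) [Field Ω] [IsAlgClosed Ω] (σ : Spec (CommRingCat.of Ω) ⟶ T.left),
      (σ ≫ (φ T c).left = σ ≫ (φ T d).left ↔ σ (IsLocalRing.closedPoint Ω) ∈ Z) := by
  obtain ⟨L, hLc, hL⟩ := PicMul.isInvertibleCl_mul hc (PicCurve.isInvertibleCl_invCl hd)
  let pr : PicF.XT f T ⟶ T.left := PicF.XTproj f T
  haveI : IsProper pr := MorphismProperty.pullback_snd _ _ inferInstance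
  haveI : Smooth pr := MorphismProperty.pullback_snd _ _ inferInstance
  obtain ⟨Z, hZ, hZiff⟩ := exists_closed_trivial pr L hL
  refine ⟨Z, hZ, fun Ω _ _ σ => ?_⟩
  rw [← hZiff Ω σ]
  let T' : Over S := Over.mk (σ ≫ T.hom)
  let m : T' ⟶ T := Over.homMk σ
  haveI : IsSepClosed (IsLocalRing.ResidueField Ω) :=
    haveI : IsAlgClosed (IsLocalRing.ResidueField Ω) :=
      IsAlgClosed.of_ringEquiv Ω (IsLocalRing.ResidueField Ω) (RingEquiv.ofBijective (IsLocalRing.residue Ω)
        ⟨(IsLocalRing.residue Ω).injective, IsLocalRing.residue_surjective⟩)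
    inferInstance
  have hsec : RelPicGrp.HasSec T'.left := RelPicGrp.hasSec_spec Ω
  have hpb : IsPullback (PicF.XTmap f m) (PicF.XTproj f T') pr σ := RelPicGrp.isPullback_XTmap m
  let e := hpb.isoPullback
  have hi : ∀ {a : PicF.Cl (PicF.XT f T)}, PicF.IsInvertibleCl a → PicF.IsInvertibleCl (PicF.pullCl (PicF.XTmap f m) a) :=
    fun ha => RelPicGrp.isInvertibleCl_pull _ ha
  have h1 : σ ≫ (φ T c).left = σ ≫ (φ T d).left ↔
      PicF.pullCl (PicF.XTmap f m) c = PicF.pullCl (PicF.XTmap f m) d := by
    refine ⟨fun h => ?_, fun h => ?_⟩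
    · refine RelPicGrp.eq_of_phi_eq hP hsec (hi hc) (hi hd) ?_
      rw [hP.natural _ _ m c hc, hP.natural _ _ m d hd]
      exact Over.OverMorphism.ext h
    · have h' := congrArg (φ T') h
      rw [hP.natural _ _ m c hc, hP.natural _ _ m d hd] at h'
      exact congrArg (fun r => r.left) h'
  have h2 : PicF.pullCl (PicF.XTmap f m) (PicF.cl L) = 1 ↔
      Triv ((Scheme.Modules.pullback (pullback.fst pr σ)).obj L) :=
    ⟨fun h => SeesawGlobal.triv_of_factor e.inv hpb.isoPullback_inv_fst
        (show Triv ((Scheme.Modules.pullback (PicF.XTmap f m)).obj L) from PicMul.cl_eq_iff.1 h),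
      fun h => PicMul.cl_eq_iff.2 (SeesawGlobal.triv_of_factor e.hom hpb.isoPullback_hom_fst h)⟩
  rw [h1, ← h2, hLc, PicMul.pullCl_mul]
  have h3 : PicF.pullCl (PicF.XTmap f m) (PicCurve.invCl hd) * PicF.pullCl (PicF.XTmap f m) d = 1 := by
    rw [← PicMul.pullCl_mul, PicCurve.invCl_mul, PicMul.pullCl_one]
  refine ⟨fun h => by rw [h, mul_comm, h3], fun h => ?_⟩
  have h4 := congrArg (· * PicF.pullCl (PicF.XTmap f m) d) h
  simp only [_root_.mul_assoc, h3, _root_.mul_one, _root_.one_mul] at h4
  exact h4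

include hP in
/-- the relative Picard scheme is separated -/
theorem isSeparated : IsSeparated P.hom := by
  let Δ := pullback.diagonal P.hom
  let T : Over S := Over.mk (pullback.fst P.hom P.hom ≫ P.hom)
  let x : T ⟶ P := Over.homMk (pullback.fst P.hom P.hom) rfl
  let y : T ⟶ P := Over.homMk (pullback.snd P.hom P.hom) pullback.condition.symm
  have hΔ : IsClosed (Set.range Δ) := by
    rw [← isOpen_compl_iff, isOpen_iff_forall_mem_open]
    intro z hz
    obtain ⟨I, U, hU, hc⟩ := hP.locallySurjective T x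
    obtain ⟨i, u, hu⟩ := hU z
    obtain ⟨c, hcI, hcx⟩ := hc i
    obtain ⟨J, V, hV, hd⟩ := hP.locallySurjective (PicRel.ovr T (U i)) (PicRel.ovrHom T (U i) ≫ y)
    obtain ⟨k, v, hv⟩ := hV u
    obtain ⟨d, hdI, hdy⟩ := hd k
    let W := PicRel.ovr (PicRel.ovr T (U i)) (V k)
    let q : W ⟶ PicRel.ovr T (U i) := PicRel.ovrHom (PicRel.ovr T (U i)) (V k)
    let r : W ⟶ T := q ≫ PicRel.ovrHom T (U i)
    let c' := PicF.pullCl (PicF.XTmap f q) c
    have hc'I : PicF.IsInvertibleCl c' := RelPicGrp.isInvertibleCl_pull _ hcI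
    have hc' : φ W c' = r ≫ x := by rw [hP.natural _ _ q c hcI, hcx, Category.assoc]
    have hd' : φ W d = r ≫ y := by rw [hdy, Category.assoc]
    obtain ⟨Z, hZ, hZiff⟩ := exists_closed_eq f hP hc'I hdI
    have key : ∀ w : W.left, w ∈ Z ↔ r.left w ∈ Set.range Δ := by
      intro w
      let Ω := AlgebraicClosure (W.left.residueField w)
      let σ : Spec (CommRingCat.of Ω) ⟶ W.left :=
        Spec.map (CommRingCat.ofHom (algebraMap (W.left.residueField w) Ω)) ≫ W.left.fromSpecResidueField w
      have hσ : ∀ o, σ o = w := fun o => by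
        rw [Scheme.Hom.comp_apply]
        exact Scheme.fromSpecResidueField_apply _ _
      rw [← hσ (IsLocalRing.closedPoint Ω), ← hZiff Ω σ, hσ, hc', hd']
      show (σ ≫ r.left ≫ pullback.fst P.hom P.hom = σ ≫ r.left ≫ pullback.snd P.hom P.hom) ↔ _
      constructor
      · intro h
        have hfac : (σ ≫ r.left ≫ pullback.fst P.hom P.hom) ≫ Δ = σ ≫ r.left := by
          refine pullback.hom_ext ?_ ?_
          · simp [Δ]
          · simpa [Δ] using h
        refine ⟨(σ ≫ r.left ≫ pullback.fst P.hom P.hom) (IsLocalRing.closedPoint Ω), ?_⟩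
        rw [← Scheme.Hom.comp_apply, hfac, Scheme.Hom.comp_apply, hσ]
        rfl
      · intro h
        obtain ⟨a, ha⟩ := RedSub.exists_lift (σ ≫ r.left) Δ (by
          rintro _ ⟨o, rfl⟩
          rw [Scheme.Hom.comp_apply, hσ]
          exact h)
        rw [← Category.assoc, ← ha, ← Category.assoc σ, ← ha, Category.assoc, Category.assoc,
          pullback.diagonal_fst, pullback.diagonal_snd]
    haveI : Etale (U i).hom := (U i).prop
    haveI : Etale (V k).hom := (V k).prop
    haveI : Etale r.left := inferInstanceAs (Etale ((V k).hom ≫ (U i).hom))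
    refine ⟨r.left '' Zᶜ, ?_, r.left.isOpenMap _ hZ.isOpen_compl, ⟨v, fun hvZ => hz ?_, ?_⟩⟩
    · rintro _ ⟨w, hw, rfl⟩ hwΔ
      exact hw ((key w).2 hwΔ)
    · have h := (key v).1 hvZ
      rwa [show r.left v = z from (congrArg (U i).hom hv).trans hu] at h
    · exact (congrArg (U i).hom hv).trans hu
  haveI : IsClosedImmersion Δ := IsClosedImmersion.of_isPreimmersion Δ hΔ
  exact ⟨inferInstance⟩

variable [IsLocallyNoetherian S]

include hP in
/-- closed subschemes of finite type of the relative Picard scheme are proper -/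
theorem isProper_closed {Z : Scheme.{u}} (i : Z ⟶ P.left) [IsClosedImmersion i]
    [LocallyOfFiniteType (i ≫ P.hom)] [QuasiCompact (i ≫ P.hom)] : IsProper (i ≫ P.hom) := by
  haveI := isSeparated f hP
  refine Proj16.isProper_of_dvr _ (fun A _ _ _ x b w => ?_) (Proj16.dvrUniqueness_of_isSeparated _)
  obtain ⟨l, hl1, hl2⟩ := dvrExistence f hP A (x ≫ i) b (by rw [Category.assoc, w])
  let ja := Spec.map (CommRingCat.ofHom (algebraMap A (FractionRing A)))
  have hr : Set.range l ⊆ Set.range i := by
    have hd : DenseRange ja := PrimeSpectrum.denseRange_comap_iff_ker_le_nilRadical _ |>.2 (by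
      rw [CommRingCat.hom_ofHom, (RingHom.injective_iff_ker_eq_bot _).1 (IsFractionRing.injective A (FractionRing A))]
      exact bot_le)
    refine (l.continuous.range_subset_closure_image_dense hd).trans
      (closure_minimal ?_ i.isClosedEmbedding.isClosed_range)
    rintro _ ⟨_, ⟨o, rfl⟩, rfl⟩
    refine ⟨x o, ?_⟩
    rw [← Scheme.Hom.comp_apply, ← hl2]
    rfl
  obtain ⟨l', hl'⟩ := RedSub.exists_lift_closed l i hr
  refine ⟨l', by rw [← Category.assoc, hl', hl1], ?_⟩
  rw [← cancel_mono i, Category.assoc, hl', hl2]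

end Groth.Agent.PicSep

end
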