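import Groth.Agent.S3701
import Groth.Agent.SteinLib.General
import Groth.Agent.Deform.WeilGeomInt.Smooth
import Groth.Agent.FppfPic.TrivClosed
import Mathlib.AlgebraicGeometry.Morphisms.Etale

/-!
Triviality on the geometric fibres of a proper smooth morphism is a closed condition on the base.
-/

noncomputable section

set_option autoImplicit false
set_option linter.style.haveILetI false
set_option linter.unusedSectionVars false
set_option backward.isDefEq.respectTransparency false
set_option backward.isDefEq.respectTransparency.types false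
set_option maxHeartbeats 1000000
set_option synthInstance.maxHeartbeats 400000

universe u

open CategoryTheory CategoryTheory.Limits AlgebraicGeometry TopologicalSpace

attribute [-instance] CategoryTheory.catToReflQuiver

namespace Groth.Agent.PicSep

open Groth.Agent Groth.Agent.H23 Groth.Agent.H23.TrivBasic Groth.Agent.H23.SeesawGlobal Groth.Agent.InvX

/-- triviality can be tested on disjoint open pieces -/
theorem triv_of_disjoint {X : Scheme.{u}} (L : X.Modules) {I : Type u} {Y : I → Scheme.{u}} (j : ∀ i, Y i ⟶ X)
    [∀ i, IsOpenImmersion (j i)] (hcov : ∀ x : X, ∃ i, x ∈ Set.range (j i))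
    (hdis : ∀ a b, a ≠ b → Disjoint (Set.range (j a)) (Set.range (j b)))
    (h : ∀ i, Triv ((Scheme.Modules.pullback (j i)).obj L)) : Triv L := by
  choose e he using fun i => exists_frame_of_triv (j i) (h i)
  obtain ⟨s, hs, -⟩ := AModX.existsUnique_glue (M := L) (V := ⊤) (fun i => (j i).opensRange) (fun i => le_top)
    (fun x _ => hcov x) e fun a b => by
      by_cases hab : a = b
      · subst hab
        rfl
      · exact AModX.eq_of_locally _ _ fun p hp => ((hdis a b hab).le_bot ⟨hp.1, hp.2⟩).elim
  refine triv_of_frame (e := s) (isFrame_of_germwise fun x _ => ?_)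
  obtain ⟨i, hi⟩ := hcov x
  exact ⟨(j i).opensRange, le_top, hi, (hs i).symm ▸ he i⟩

/-- sections of étale morphisms are open immersions -/
theorem isOpenImmersion_of_section {N T : Scheme.{u}} (h : N ⟶ T) [Etale h] (q : T ⟶ N) (hq : q ≫ h = 𝟙 _) :
    IsOpenImmersion q := by
  haveI : Etale (q ≫ h) := by rw [hq]; infer_instance
  haveI : Etale q := Etale.of_comp q h
  haveI : Mono q := by
    haveI : Mono (q ≫ h) := by rw [hq]; infer_instance
    exact mono_of_mono q h
  exact IsOpenImmersion.of_flat_of_mono q

/-- a quasi-finite scheme over a point is discrete -/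
theorem discreteTopology_of_point {T P : Scheme.{u}} [Subsingleton P] (q : T ⟶ P) [LocallyQuasiFinite q] :
    DiscreteTopology T := by
  refine discreteTopology_iff_isOpen_singleton.2 fun t => ?_
  have h := q.isDiscrete_preimage_singleton (q t)
  rw [show q ⁻¹' {q t} = Set.univ from Set.eq_univ_of_forall fun x => Subsingleton.elim (q x) (q t)] at h
  haveI := isDiscrete_univ_iff.1 h
  exact isOpen_discrete _

variable {X N T : Scheme.{u}} (g : X ⟶ N) (h : N ⟶ T)

/-- over an algebraically closed field a family over a finite étale scheme is trivial if it is so over each point -/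
theorem triv_of_points {Ω : Type u} [Field Ω] [IsAlgClosed Ω] {X N : Scheme.{u}} (g : X ⟶ N)
    (h : N ⟶ Spec (CommRingCat.of Ω)) [IsFinite h] [Etale h] (L : X.Modules)
    (hL : ∀ p : Spec (CommRingCat.of Ω) ⟶ N, p ≫ h = 𝟙 _ → Triv ((Scheme.Modules.pullback (pullback.fst g p)).obj L)) :
    Triv L := by
  haveI : DiscreteTopology N := discreteTopology_of_point h
  have hc : ∀ n : N, IsClosed ({n} : Set N) := fun n => isClosed_discrete _
  let p : ∀ n : N, Spec (CommRingCat.of Ω) ⟶ N := fun n => pointOfClosedPoint h n (hc n)
  have hp : ∀ n, p n ≫ h = 𝟙 _ := fun n => pointOfClosedPoint_comp h n (hc n)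
  have hpr : ∀ n, Set.range (p n) = {n} := fun n => by
    refine Set.eq_singleton_iff_unique_mem.2
      ⟨⟨IsLocalRing.closedPoint Ω, pointOfClosedPoint_apply h n (hc n) _⟩, ?_⟩
    rintro _ ⟨o, rfl⟩
    exact pointOfClosedPoint_apply h n (hc n) o
  haveI : ∀ n, IsOpenImmersion (p n) := fun n => isOpenImmersion_of_section h _ (hp n)
  have hr : ∀ n, Set.range (pullback.fst g (p n)) = g ⁻¹' {n} := fun n => by
    rw [Scheme.Pullback.range_fst, hpr]
  refine triv_of_disjoint L (fun n : ULift.{u} N => pullback.fst g (p n.down)) (fun x => ⟨⟨g x⟩, ?_⟩)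
    (fun a b hab => ?_) fun n => hL _ (hp _)
  · rw [hr]
    rfl
  · rw [hr, hr]
    exact Set.disjoint_left.2 fun x hx hx' => hab (ULift.ext _ _ (hx.symm.trans hx'))

variable [IsProper g] [Flat g] [LocallyOfFinitePresentation g] [GeometricallyIntegral g] [IsFinite h] [Etale h]
  (L : X.Modules) (hL : PicF.IsInvertible L)

/-- the points of the base all whose preimages have trivial fibre -/
def trivSet : Set T := (h '' {n | ¬ FieldTriv g L n})ᶜ

include hL in
theorem isClosed_trivSet : IsClosed (trivSet g h L) :=
  (h.isOpenMap _ (FppfPic.isClosed_trivLocus g L hL).isOpen_compl).isClosed_compl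

include hL in
/-- a geometric fibre is trivial iff its point lies in the trivial set -/
theorem triv_fibre_iff {Ω : Type u} [Field Ω] [IsAlgClosed Ω] (σ : Spec (CommRingCat.of Ω) ⟶ T) :
    Triv ((Scheme.Modules.pullback (pullback.fst (g ≫ h) σ)).obj L) ↔ σ (IsLocalRing.closedPoint Ω) ∈ trivSet g h L := by
  let e := pullbackRightPullbackFstIso h σ g
  let N' := pullback h σ
  let g' : pullback g (pullback.fst h σ) ⟶ N' := pullback.snd g (pullback.fst h σ)
  have he : e.hom ≫ pullback.fst (g ≫ h) σ = pullback.fst g (pullback.fst h σ) :=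
    pullbackRightPullbackFstIso_hom_fst _ _ _
  constructor
  · rintro hT ⟨n, hn, hnt⟩
    refine hn ?_
    obtain ⟨n', hn'⟩ : ∃ n' : N', pullback.fst h σ n' = n := by
      obtain ⟨n', h1, -⟩ := Scheme.Pullback.exists_preimage_pullback (f := h) (g := σ) n (IsLocalRing.closedPoint Ω) hnt
      exact ⟨n', h1⟩
    haveI : DiscreteTopology N' := discreteTopology_of_point (pullback.snd h σ)
    let q := pointOfClosedPoint (pullback.snd h σ) n' (isClosed_discrete _)
    have hqn : q (IsLocalRing.closedPoint Ω) = n' := pointOfClosedPoint_apply _ _ _ _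
    refine FppfPic.fieldTriv_of_triv g L hL n Ω (q ≫ pullback.fst h σ) (by rw [Scheme.Hom.comp_apply, hqn, hn']) ?_
    refine SeesawGlobal.triv_pullback_of_factor q rfl ?_
    exact triv_of_factor e.hom he hT
  · intro hmem
    have hT : Triv ((Scheme.Modules.pullback (pullback.fst g (pullback.fst h σ))).obj L) := by
      refine triv_of_points g' (pullback.snd h σ) _ fun p hp => (triv_comp_iff _ _).2 ?_
      have hF : FieldTriv g L ((p ≫ pullback.fst h σ) (IsLocalRing.closedPoint Ω)) := by
        by_contra hF
        refine hmem ⟨_, hF, ?_⟩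
        rw [← Scheme.Hom.comp_apply, Category.assoc, pullback.condition, ← Category.assoc, hp, Category.id_comp]
      refine triv_of_factor (pullback.lift (pullback.fst g' p ≫ pullback.fst g (pullback.fst h σ))
        (pullback.snd g' p) ?_) (pullback.lift_fst _ _ _) (hF Ω (p ≫ pullback.fst h σ) rfl)
      rw [Category.assoc, pullback.condition, ← Category.assoc, pullback.condition, Category.assoc]
    refine triv_of_factor e.inv ?_ hT
    rw [Iso.inv_comp_eq, he]

/-- a morphism to an étale scheme is smooth if the composite is -/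
theorem smooth_of_comp {X N T : Scheme.{u}} (g : X ⟶ N) (h : N ⟶ T) [Smooth (g ≫ h)] [Etale h] : Smooth g := by
  haveI : MorphismProperty.HasOfPostcompProperty @Smooth @Etale := by
    rw [MorphismProperty.hasOfPostcompProperty_iff_le_diagonal]
    intro X Y f hf
    haveI : Etale f := hf
    exact inferInstanceAs <| Smooth (pullback.diagonal f)
  exact MorphismProperty.of_postcomp (W := @Smooth) (W' := @Etale) g h ‹_› ‹_›

omit L g h in
/-- for a proper smooth morphism the geometric fibres on which an invertible class is trivial form a closed set -/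
theorem exists_closed_trivial {X T : Scheme.{u}} (f : X ⟶ T) [IsProper f] [Smooth f] (L : X.Modules)
    (hL : PicF.IsInvertible L) :
    ∃ Z : Set T, IsClosed Z ∧ ∀ (Ω : Type u) [Field Ω] [IsAlgClosed Ω] (σ : Spec (CommRingCat.of Ω) ⟶ T),
      (Triv ((Scheme.Modules.pullback (pullback.fst f σ)).obj L) ↔ σ (IsLocalRing.closedPoint Ω) ∈ Z) := by
  haveI := H23.RigidGamma.geometricallyReduced_of_smooth f
  obtain ⟨hfin, het⟩ := S3701.result f fun Ω _ _ σ => GeometricallyReduced.geometrically_isReduced (f := f) σ _ _
    (IsPullback.of_hasPullback f σ)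
  let g := f.toNormalization
  let h := f.fromNormalization
  haveI : IsFinite h := hfin
  haveI : Etale h := het
  have hgh : g ≫ h = f := f.toNormalization_fromNormalization
  haveI : IsProper g := SteinLib.isProper_toNormalization f
  haveI : Smooth (g ≫ h) := by rw [hgh]; infer_instance
  haveI : Smooth g := smooth_of_comp g h
  haveI : GeometricallyConnected g := SteinLib.geometricallyConnected_toNormalization_general f
  haveI : GeometricallyIntegral g := Deform.WeilGeomInt.geometricallyIntegral_of_smooth g fun n =>
    GeometricallyConnected.geometrically_connectedSpace (f := g) _ _ _ (IsPullback.of_hasPullback g (Red.geomPt n))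
  refine ⟨trivSet g h L, isClosed_trivSet g h L hL, fun Ω _ _ σ => ?_⟩
  rw [← triv_fibre_iff g h L hL σ]
  have key : ∀ f' : X ⟶ T, f' = g ≫ h → (Triv ((Scheme.Modules.pullback (pullback.fst f' σ)).obj L) ↔
      Triv ((Scheme.Modules.pullback (pullback.fst (g ≫ h) σ)).obj L)) := by
    rintro _ rfl
    exact Iff.rfl
  exact key f hgh.symm

end Groth.Agent.PicSep

end
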